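import Cfsg.Agent.H847.Bs.Defs2
import Cfsg.Agent.FooteOrth.Spin
import Cfsg.Agent.FastGrp
import Cfsg.Agent.Prune
set_option linter.all false

section
prune_inst 0x7fbdebfff9fcefffffff7ffff7ffcffdfdffbfffe6fffdfbffe8fbffefdf7f828fc3fbdfeffb5afd1ff7e334d4fc7b53fffffeffe26ff8fffffdbff41ffbffdfedf7b50951d59c341fbe2ffe83f07f8e7f3fffffffffffffffffffffffffffbeffbfffffffff

-- part: H765/Bs/Ext
section
prune_inst 0x42140006031000000080000000000002000000100000040003040010208075602804200004a100c000084809028080000001000000020000020000c000000010000834200a23cac04140016808004000000000000000000000000000000041000000000000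
set_option linter.all false
open scoped Cfsg.Agent.FastGrp

/-!
# S5733, BS23: block diagonal isometries of `W ⟂ D ⟂ U` (helper765)

* `J e (a, b, c)` : the automorphism of `V ≅ W × D × U` acting as `a`, `b`, `c`;
* `Ctx` : `Q (e (w, d, u)) = QW w + QD d + QU u`;
* `J_mem_O_iff`, `J_mem_E` : isometries, products of Siegel elements of the three summands.
-/

set_option autoImplicit false

namespace Cfsg.Agent.H765.Bs

open QuadraticMap Cfsg.Agent.LieClassical.OrthCore Cfsg.Agent.LieClassical.OrthTrans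

variable {F V W D U : Type*} [Field F] [AddCommGroup V] [Module F V] [AddCommGroup W] [Module F W]
  [AddCommGroup D] [Module F D] [AddCommGroup U] [Module F U]

/-- block diagonal automorphisms -/
def J (e : (W × D × U) ≃ₗ[F] V) : ((W ≃ₗ[F] W) × (D ≃ₗ[F] D) × (U ≃ₗ[F] U)) →* (V ≃ₗ[F] V) where
  toFun x := e.symm ≪≫ₗ (x.1.prodCongr (x.2.1.prodCongr x.2.2)) ≪≫ₗ e
  map_one' := by
    ext v
    simp only [_root_.Prod.fst_one, _root_.Prod.snd_one, _root_.LinearEquiv.trans_apply, _root_.LinearEquiv.prodCongr_apply, _root_.LinearEquiv.coe_one, _root_.id_eq, _root_.Prod.mk.eta, _root_.LinearEquiv.apply_symm_apply]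
  map_mul' x y := by
    ext v
    simp only [_root_.Prod.fst_mul, _root_.Prod.snd_mul, _root_.LinearEquiv.trans_apply, _root_.LinearEquiv.prodCongr_apply, _root_.LinearEquiv.mul_apply, _root_.LinearEquiv.symm_apply_apply]

variable {e : (W × D × U) ≃ₗ[F] V}

theorem J_apply (a : W ≃ₗ[F] W) (b : D ≃ₗ[F] D) (c : U ≃ₗ[F] U) (w : W) (d : D) (u : U) :
    J e (a, b, c) (e (w, d, u)) = e (a w, b d, c u) := by
  simp [J]

theorem J_injective : Function.Injective (J e) := by
  rintro ⟨a, b, c⟩ ⟨a', b', c'⟩ h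
  have h1 : ∀ w d u, (a w, b d, c u) = (a' w, b' d, c' u) := by
    intro w d u
    have := congrArg (fun g : V ≃ₗ[F] V => g (e (w, d, u))) h
    simp only [J_apply] at this
    exact e.injective this
  have ha : a = a' := by ext w; exact congrArg Prod.fst (h1 w 0 0)
  have hb : b = b' := by ext d; exact congrArg (fun x => x.2.1) (h1 0 d 0)
  have hc : c = c' := by ext u; exact congrArg (fun x => x.2.2) (h1 0 0 u)
  rw [ha, hb, hc]

theorem eq_of_apply {g h : V ≃ₗ[F] V} (e : (W × D × U) ≃ₗ[F] V)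
    (hgh : ∀ w d u, g (e (w, d, u)) = h (e (w, d, u))) : g = h := by
  ext v
  obtain ⟨⟨w, d, u⟩, rfl⟩ := e.surjective v
  exact hgh w d u

variable {Q : QuadraticForm F V} {QW : QuadraticForm F W} {QD : QuadraticForm F D} {QU : QuadraticForm F U}

/-- the isometric decomposition -/
def Iso3 (Q : QuadraticForm F V) (QW : QuadraticForm F W) (QD : QuadraticForm F D) (QU : QuadraticForm F U)
    (e : (W × D × U) ≃ₗ[F] V) : Prop := ∀ w d u, Q (e (w, d, u)) = QW w + QD d + QU u

variable (he : Iso3 Q QW QD QU e)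
include he

theorem Iso3.polar (w w' : W) (d d' : D) (u u' : U) :
    polar Q (e (w, d, u)) (e (w', d', u')) = polar QW w w' + polar QD d d' + polar QU u u' := by
  simp only [QuadraticMap.polar]
  rw [← map_add, Prod.mk_add_mk, Prod.mk_add_mk, he, he, he]
  ring

theorem J_mem_O_iff (a : W ≃ₗ[F] W) (b : D ≃ₗ[F] D) (c : U ≃ₗ[F] U) :
    J e (a, b, c) ∈ O Q ↔ a ∈ O QW ∧ b ∈ O QD ∧ c ∈ O QU := by
  constructor
  · intro h
    have h1 : ∀ w d u, QW (a w) + QD (b d) + QU (c u) = QW w + QD d + QU u := by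
      intro w d u
      have := h (e (w, d, u))
      rwa [J_apply, he, he] at this
    refine ⟨fun w => ?_, fun d => ?_, fun u => ?_⟩
    · simpa using h1 w 0 0
    · simpa only [_root_.map_zero, _root_.zero_add, _root_.add_zero] using h1 0 d 0
    · simpa only [_root_.map_zero, _root_.add_zero, _root_.zero_add] using h1 0 0 u
  · rintro ⟨h1, h2, h3⟩ v
    obtain ⟨⟨w, d, u⟩, rfl⟩ := e.surjective v
    rw [J_apply, he, he, h1 w, h2 d, h3 u]

theorem Iso3.nondegW (hQ : Nondeg Q) : Nondeg QW := by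
  intro w hw
  have h1 := hQ (e (w, 0, 0)) (fun y => by
    obtain ⟨⟨w', d, u⟩, rfl⟩ := e.surjective y
    rw [he.polar, hw]
    simp [QuadraticMap.polar])
  have h2 := e.injective (h1.trans (map_zero e).symm)
  exact congrArg Prod.fst h2

theorem Iso3.nondegD (hQ : Nondeg Q) : Nondeg QD := by
  intro d hd
  have h1 := hQ (e (0, d, 0)) (fun y => by
    obtain ⟨⟨w', d, u⟩, rfl⟩ := e.surjective y
    rw [he.polar, hd]
    simp [QuadraticMap.polar])
  have h2 := e.injective (h1.trans (map_zero e).symm)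
  exact congrArg (fun x => x.2.1) h2

theorem Iso3.nondegU (hQ : Nondeg Q) : Nondeg QU := by
  intro u hu
  have h1 := hQ (e (0, 0, u)) (fun y => by
    obtain ⟨⟨w', d, u⟩, rfl⟩ := e.surjective y
    rw [he.polar, hu]
    simp [QuadraticMap.polar])
  have h2 := e.injective (h1.trans (map_zero e).symm)
  exact congrArg (fun x => x.2.2) h2

theorem J_siegelW {x y : W} (hx : QW x = 0) (hy : polar QW x y = 0) (hx' : Q (e (x, 0, 0)) = 0)
    (hy' : polar Q (e (x, 0, 0)) (e (y, 0, 0)) = 0) :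
    J e (siegel QW x y hx hy, 1, 1) = siegel Q (e (x, 0, 0)) (e (y, 0, 0)) hx' hy' := by
  apply eq_of_apply e
  intro w d u
  rw [J_apply, siegel_apply, siegel_apply, he.polar, he.polar, he]
  simp only [← map_smul, ← map_add, ← map_sub, Prod.smul_mk, Prod.mk_add_mk, Prod.mk_sub_mk, smul_zero,
    polar_zero_left, QuadraticMap.map_zero, add_zero, sub_zero, LinearEquiv.coe_one, id_eq]

theorem J_reflW {x : W} (hx : QW x ≠ 0) (hx' : Q (e (x, 0, 0)) ≠ 0) :
    J e (refl QW x hx, 1, 1) = refl Q (e (x, 0, 0)) hx' := by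
  apply eq_of_apply e
  intro w d u
  rw [J_apply, refl_apply, refl_apply, he.polar, he]
  simp only [← map_smul, ← map_sub, Prod.smul_mk, Prod.mk_sub_mk, smul_zero,
    polar_zero_left, QuadraticMap.map_zero, add_zero, sub_zero, LinearEquiv.coe_one, id_eq]

theorem J_E_W {a : W ≃ₗ[F] W} (ha : a ∈ E QW) : J e (a, 1, 1) ∈ E Q := by
  have h1 : E QW ≤ (E Q).comap ((J e).comp (MonoidHom.inl (W ≃ₗ[F] W) ((D ≃ₗ[F] D) × (U ≃ₗ[F] U)))) := by
    rw [E, Subgroup.closure_le]
    rintro _ ⟨x, y, hx, hy, rfl⟩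
    rw [SetLike.mem_coe, Subgroup.mem_comap]
    change J e (siegel QW x y hx hy, 1, 1) ∈ E Q
    have hx' : Q (e (x, 0, 0)) = 0 := by rw [he, hx]; simp
    have hy' : polar Q (e (x, 0, 0)) (e (y, 0, 0)) = 0 := by rw [he.polar, hy]; simp
    rw [J_siegelW he hx hy hx' hy']
    exact siegel_mem_E hx' hy'
  exact h1 ha

omit he

/-- permutation of the summands -/
def swapD (e : (W × D × U) ≃ₗ[F] V) : (D × W × U) ≃ₗ[F] V where
  toFun x := e (x.2.1, x.1, x.2.2)
  invFun v := ((e.symm v).2.1, (e.symm v).1, (e.symm v).2.2)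
  map_add' x y := by rw [← map_add]; rfl
  map_smul' c x := by rw [RingHom.id_apply, ← map_smul]; rfl
  left_inv x := by simp
  right_inv v := by simp

/-- permutation of the summands -/
def swapU (e : (W × D × U) ≃ₗ[F] V) : (U × W × D) ≃ₗ[F] V where
  toFun x := e (x.2.1, x.2.2, x.1)
  invFun v := ((e.symm v).2.2, (e.symm v).1, (e.symm v).2.1)
  map_add' x y := by rw [← map_add]; rfl
  map_smul' c x := by rw [RingHom.id_apply, ← map_smul]; rfl
  left_inv x := by simp
  right_inv v := by simp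

theorem swapD_apply (w : W) (d : D) (u : U) : swapD e (d, w, u) = e (w, d, u) := rfl

theorem swapU_apply (w : W) (d : D) (u : U) : swapU e (u, w, d) = e (w, d, u) := rfl

theorem J_swapD (a : W ≃ₗ[F] W) (b : D ≃ₗ[F] D) (c : U ≃ₗ[F] U) : J (swapD e) (b, a, c) = J e (a, b, c) := by
  apply eq_of_apply (swapD e)
  intro d w u
  rw [J_apply, swapD_apply, swapD_apply, J_apply]

theorem J_swapU (a : W ≃ₗ[F] W) (b : D ≃ₗ[F] D) (c : U ≃ₗ[F] U) : J (swapU e) (c, a, b) = J e (a, b, c) := by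
  apply eq_of_apply (swapU e)
  intro u w d
  rw [J_apply, swapU_apply, swapU_apply, J_apply]

include he

theorem iso_swapD : Iso3 Q QD QW QU (swapD e) := fun d w u => by
  rw [swapD_apply, he]
  ring

theorem iso_swapU : Iso3 Q QU QW QD (swapU e) := fun u w d => by
  rw [swapU_apply, he]
  ring

theorem J_E_D {b : D ≃ₗ[F] D} (hb : b ∈ E QD) : J e (1, b, 1) ∈ E Q := by
  rw [← J_swapD]
  exact J_E_W (iso_swapD he) hb

theorem J_E_U {c : U ≃ₗ[F] U} (hc : c ∈ E QU) : J e (1, 1, c) ∈ E Q := by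
  rw [← J_swapU]
  exact J_E_W (iso_swapU he) hc

end Cfsg.Agent.H765.Bs

private theorem dce_f1d2f9ee5194 : _root_.True := by
  try have : _root_.True := by simp only [_root_.Cfsg.Agent.H765.Bs.J.eq_1]
  exact _root_.True.intro
end

-- part: H765/Bs/Kap
section
prune_inst 0x20000000000000000000000000000000000800040000000000020000000000000000000000001100000000000008000400000000400000200000000000000000800000000000000000000000000000000000000000000000
set_option linter.all false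
open scoped Cfsg.Agent.FastGrp

/-!
# S5733, BS23: determinant and spinor sign of block diagonal isometries (helper765)

* `exists_kap` : `κ : O Q →* Fˣ × ℤˣ` (odd characteristic) with kernel `E Q`;
* `card_O_le` : `|O Q| ≤ 4 |E Q|` in all characteristics;
* `mem_E_of_eq`, `mem_E_of_ne` : `J (1, b, c) ∈ E Q` for `b`, `c` both in `E` or both not in `E`, of determinant one.
-/

set_option autoImplicit false
set_option linter.unusedSectionVars false

namespace Cfsg.Agent.H765.Bs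

open QuadraticMap Cfsg.Agent.LieClassical.OrthCore Cfsg.Agent.LieClassical.OrthTrans
  Cfsg.Agent.LieClassical.OrthFinite

section Kap

variable {F V : Type*} [Field F] [AddCommGroup V] [Module F V] {Q : QuadraticForm F V}

/-- the transported form -/
def tQ {V' : Type*} [AddCommGroup V'] [Module F V'] (Q : QuadraticForm F V) (L : V ≃ₗ[F] V') : QuadraticForm F V' :=
  Q.comp (L.symm : V' →ₗ[F] V)

variable {V' : Type*} [AddCommGroup V'] [Module F V'] {L : V ≃ₗ[F] V'}

theorem tQ_apply (v : V) : tQ Q L (L v) = Q v := by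
  simp [tQ]

theorem tQ_polar (v w : V) : polar (tQ Q L) (L v) (L w) = polar Q v w := by
  simp only [QuadraticMap.polar]
  rw [← map_add, tQ_apply, tQ_apply, tQ_apply]

/-- conjugation -/
def cj (L : V ≃ₗ[F] V') : (V ≃ₗ[F] V) →* (V' ≃ₗ[F] V') where
  toFun g := L.symm ≪≫ₗ g ≪≫ₗ L
  map_one' := by ext v; simp
  map_mul' g h := by ext v; simp only [_root_.LinearEquiv.trans_apply, _root_.LinearEquiv.mul_apply, _root_.LinearEquiv.symm_apply_apply]

theorem cj_apply (g : V ≃ₗ[F] V) (v : V) : cj L g (L v) = L (g v) := by simp [cj]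

theorem cj_injective : Function.Injective (cj L) := by
  intro g h hgh
  ext v
  have := congrArg (fun f : V' ≃ₗ[F] V' => f (L v)) hgh
  simp only [cj_apply] at this
  exact L.injective this

theorem cj_O {g : V ≃ₗ[F] V} : cj L g ∈ O (tQ Q L) ↔ g ∈ O Q := by
  constructor
  · intro h v
    have := h (L v)
    rwa [cj_apply, tQ_apply, tQ_apply] at this
  · intro h v
    obtain ⟨v, rfl⟩ := L.surjective v
    rw [cj_apply, tQ_apply, tQ_apply, h]

theorem cj_refl {v : V} (hv : Q v ≠ 0) (hv' : tQ Q L (L v) ≠ 0) : cj L (refl Q v hv) = refl (tQ Q L) (L v) hv' := by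
  ext x
  obtain ⟨x, rfl⟩ := L.surjective x
  rw [cj_apply, refl_apply, refl_apply, tQ_apply, tQ_polar, map_sub, map_smul]

theorem cj_siegel {u w : V} (hu : Q u = 0) (hw : polar Q u w = 0) (hu' : tQ Q L (L u) = 0)
    (hw' : polar (tQ Q L) (L u) (L w) = 0) :
    cj L (siegel Q u w hu hw) = siegel (tQ Q L) (L u) (L w) hu' hw' := by
  ext x
  obtain ⟨x, rfl⟩ := L.surjective x
  rw [cj_apply, siegel_apply, siegel_apply, tQ_apply, tQ_polar, tQ_polar, map_sub, map_sub, map_add, map_smul,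
    map_smul, map_smul]

theorem cj_E {g : V ≃ₗ[F] V} : cj L g ∈ E (tQ Q L) ↔ g ∈ E Q := by
  have h1 : (E Q).map (cj L) = E (tQ Q L) := by
    rw [E, E, MonoidHom.map_closure]
    congr 1
    ext x
    constructor
    · rintro ⟨_, ⟨u, w, hu, hw, rfl⟩, rfl⟩
      exact ⟨L u, L w, by rw [tQ_apply]; exact hu, by rw [tQ_polar]; exact hw, (cj_siegel hu hw _ _)⟩
    · rintro ⟨u, w, hu, hw, rfl⟩
      obtain ⟨u, rfl⟩ := L.surjective u
      obtain ⟨w, rfl⟩ := L.surjective w
      have hu' : Q u = 0 := by rwa [tQ_apply] at hu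
      have hw' : polar Q u w = 0 := by rwa [tQ_polar] at hw
      exact ⟨_, ⟨u, w, hu', hw', rfl⟩, cj_siegel hu' hw' hu hw⟩
  rw [← h1]
  exact Subgroup.mem_map_iff_mem cj_injective

theorem nondeg_tQ (hQ : Nondeg Q) : Nondeg (tQ Q L) := by
  intro x hx
  obtain ⟨x, rfl⟩ := L.surjective x
  have h1 := hQ x (fun y => by rw [← tQ_polar (L := L)]; exact hx (L y))
  rw [h1, map_zero]

open Classical in
theorem exists_kap [Finite F] [FiniteDimensional F V] (h2 : (2 : F) ≠ 0) (hQ : Nondeg Q) (hd : 5 ≤ Module.finrank F V) :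
    ∃ κ : ↥(O Q) →* Fˣ × ℤˣ, (∀ g : ↥(O Q), (g : V ≃ₗ[F] V) ∈ E Q ↔ κ g = 1) ∧
      (∀ v (hv : Q v ≠ 0), κ ⟨refl Q v hv, refl_mem_O hv⟩ = (-1, if IsSquare (Q v) then -1 else 1)) ∧
      ∀ g : ↥(O Q), ((κ g).1 : F) = LinearMap.det ((g : V ≃ₗ[F] V) : V →ₗ[F] V) := by
  obtain ⟨n, hn⟩ : ∃ n, Module.finrank F V = n := ⟨_, rfl⟩
  let L : V ≃ₗ[F] (Fin n → F) := LinearEquiv.ofFinrankEq _ _ (by rw [hn]; simp only [_root_.Module.finrank_fintype_fun_eq_card, _root_.Fintype.card_fin])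
  have hG : Good (tQ Q L) := good_of_finite (nondeg_tQ hQ) (by simp only [_root_.Module.finrank_fintype_fun_eq_card, _root_.Fintype.card_fin]; omega)
  let i : ↥(O Q) →* ↥(O (tQ Q L)) :=
    { toFun := fun g => ⟨cj L g, cj_O.2 g.2⟩
      map_one' := Subtype.ext (map_one (cj L))
      map_mul' := fun a b => Subtype.ext (map_mul (cj L) (a : V ≃ₗ[F] V) (b : V ≃ₗ[F] V)) }
  let k : ↥(O (tQ Q L)) →* Fˣ × ℤˣ :=
    ((LinearEquiv.det : ((Fin n → F) ≃ₗ[F] (Fin n → F)) →* Fˣ).comp (O (tQ Q L)).subtype).prod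
      (Cfsg.Agent.FooteOrth.sg (tQ Q L))
  refine ⟨k.comp i, ?_, ?_, ?_⟩
  · intro g
    rw [← cj_E (L := L)]
    rw [Cfsg.Agent.FooteOrth.mem_E_iff hG h2 (cj_O.2 g.2)]
    constructor
    · rintro ⟨h, h'⟩
      exact Prod.ext h h'
    · intro h
      exact ⟨congrArg Prod.fst h, congrArg Prod.snd h⟩
  · intro v hv
    have hv' : tQ Q L (L v) ≠ 0 := by rwa [tQ_apply]
    have e1 : i ⟨refl Q v hv, refl_mem_O hv⟩ = ⟨refl (tQ Q L) (L v) hv', refl_mem_O hv'⟩ :=
      Subtype.ext (cj_refl hv hv')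
    rw [MonoidHom.comp_apply, e1]
    refine Prod.ext (Cfsg.Agent.FooteOrth.det_refl hv') ?_
    have h3 := Cfsg.Agent.FooteOrth.sg_refl h2 hv'
    simp only [tQ_apply] at h3
    exact h3
  · intro g
    change ((LinearEquiv.det (cj L (g : V ≃ₗ[F] V)) : Fˣ) : F) = _
    rw [LinearEquiv.coe_det]
    have e1 : ((cj L (g : V ≃ₗ[F] V) : (Fin n → F) ≃ₗ[F] (Fin n → F)) : (Fin n → F) →ₗ[F] (Fin n → F)) =
        (L : V →ₗ[F] (Fin n → F)) ∘ₗ ((g : V ≃ₗ[F] V) : V →ₗ[F] V) ∘ₗ (L.symm : (Fin n → F) →ₗ[F] V) := by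
      ext1 v
      rfl
    rw [e1, LinearMap.det_conj]

theorem O_induction [FiniteDimensional F V] (hQ : Nondeg Q) {P : ↥(O Q) → Prop}
    (hr : ∀ v (hv : Q v ≠ 0), P ⟨refl Q v hv, refl_mem_O hv⟩)
    (hs : ∀ u w (hu : Q u = 0) (hw : polar Q u w = 0), P ⟨siegel Q u w hu hw, siegel_mem_O hu hw⟩)
    (h1 : P 1) (hm : ∀ a b, P a → P b → P (a * b)) (hi : ∀ a, P a → P a⁻¹) : ∀ g, P g := by
  rintro ⟨g, hg⟩
  have hg' := hg
  rw [O_eq_closure hQ] at hg'
  have key : ∃ hx : g ∈ O Q, P ⟨g, hx⟩ := by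
    induction hg' using Subgroup.closure_induction with
    | mem x hx =>
      rcases hx with ⟨v, hv, rfl⟩ | ⟨u, w, hu, hw, rfl⟩
      · exact ⟨refl_mem_O hv, hr v hv⟩
      · exact ⟨siegel_mem_O hu hw, hs u w hu hw⟩
    | one => exact ⟨one_mem _, h1⟩
    | mul x y hx' hy' hx hy =>
      have hx1 : x ∈ O Q := by rw [O_eq_closure hQ]; exact hx'
      have hy1 : y ∈ O Q := by rw [O_eq_closure hQ]; exact hy'
      obtain ⟨hx2, hx3⟩ := hx hx1
      obtain ⟨hy2, hy3⟩ := hy hy1
      exact ⟨mul_mem hx2 hy2, hm _ _ hx3 hy3⟩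
    | inv x hx' hx =>
      have hx1 : x ∈ O Q := by rw [O_eq_closure hQ]; exact hx'
      obtain ⟨hx2, hx3⟩ := hx hx1
      exact ⟨inv_mem hx2, hi _ hx3⟩
  obtain ⟨_, h⟩ := key
  exact h

theorem card_O_le [Finite F] [FiniteDimensional F V] (hQ : Nondeg Q) (hd : 5 ≤ Module.finrank F V) :
    Nat.card ↥(O Q) ≤ 4 * Nat.card ↥(E Q) := by
  classical
  have hfin : Finite (V ≃ₗ[F] V) := by
    have : Finite V := Module.finite_of_finite F
    exact Finite.of_injective (fun g : V ≃ₗ[F] V => (g : V → V)) DFunLike.coe_injective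
  by_cases h2 : (2 : F) = 0
  · have hG := good_of_finite hQ hd
    have hch : CharP F 2 := CharTwo.of_one_ne_zero_of_two_eq_zero one_ne_zero h2
    -- all non-singular vectors are equivalent
    have hrr : ∀ v v' : V, ∀ (hv : Q v ≠ 0) (hv' : Q v' ≠ 0), refl Q v hv * refl Q v' hv' ∈ E Q := by
      intro v v' hv hv'
      have : Fintype F := Fintype.ofFinite F
      obtain ⟨a, ha⟩ : IsSquare (Q v' * (Q v)⁻¹) := FiniteField.isSquare_of_char_two
        (ringChar.eq F 2) _
      have ha0 : a ≠ 0 := by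
        rintro rfl
        rw [mul_zero] at ha
        exact (mul_ne_zero hv' (inv_ne_zero hv)) ha
      have h3 : Q (a • v) = Q v' := by
        rw [QuadraticMap.map_smul, ← ha, smul_eq_mul, mul_assoc, inv_mul_cancel₀ hv, mul_one]
      have h4 : Q (a • v) ≠ 0 := by rw [h3]; exact hv'
      rw [← refl_smul hv ha0 h4]
      exact hG.refl_mul_refl_mem hv' h4 h3.symm
    obtain ⟨x, y, hxy⟩ := hG.exists_hyp
    obtain ⟨v₀, hv₀⟩ : ∃ v, Q v ≠ 0 := by
      refine ⟨x + y, ?_⟩
      rw [Q_add, hxy.left, hxy.right, hxy.pair]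
      simp
    set r := refl Q v₀ hv₀ with hr
    have hrr1 : r * r = 1 := refl_mul_self hv₀
    have hrO : r ∈ O Q := refl_mem_O hv₀
    have key : ∀ g : ↥(O Q), (g : V ≃ₗ[F] V) ∈ E Q ∨ r * (g : V ≃ₗ[F] V) ∈ E Q := by
      apply O_induction hQ (P := fun g => (g : V ≃ₗ[F] V) ∈ E Q ∨ r * (g : V ≃ₗ[F] V) ∈ E Q)
      · intro v hv
        exact Or.inr (hrr v₀ v hv₀ hv)
      · intro u w hu hw
        exact Or.inl (siegel_mem_E hu hw)
      · exact Or.inl (one_mem _)
      · rintro ⟨a, ha⟩ ⟨b, hb⟩ (h | h) (h' | h')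
        · exact Or.inl (mul_mem h h')
        · right
          have e1 : r * (a * b) = (r * a * r⁻¹) * (r * b) := by group
          change r * (a * b) ∈ E Q
          rw [e1]
          exact mul_mem (conj_mem_E hrO h) h'
        · right
          have e1 : r * (a * b) = (r * a) * b := by group
          change r * (a * b) ∈ E Q
          rw [e1]
          exact mul_mem h h'
        · left
          have e1 : a * b = (r * (r * a) * r⁻¹) * (r * b) := by
            rw [← mul_assoc r r a, hrr1]; group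
          change a * b ∈ E Q
          rw [e1]
          exact mul_mem (conj_mem_E hrO h) h'
      · rintro ⟨a, ha⟩ (h | h)
        · exact Or.inl (inv_mem h)
        · right
          change r * a⁻¹ ∈ E Q
          have e1 : r * a⁻¹ = r * (r * a)⁻¹ * r⁻¹ := by
            rw [mul_inv_rev, mul_assoc, mul_assoc, ← mul_inv_rev, hrr1, inv_one, mul_one]
          rw [e1]
          exact conj_mem_E hrO (inv_mem h)
    have h5 : Nat.card ↥(O Q) ≤ Nat.card (Bool × ↥(E Q)) := by
      let f : Bool × ↥(E Q) → ↥(O Q) := fun x => if x.1 then ⟨x.2, E_le_O x.2.2⟩ else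
        ⟨r * x.2, mul_mem hrO (E_le_O x.2.2)⟩
      refine Nat.card_le_card_of_surjective f ?_
      rintro ⟨g, hg⟩
      rcases key ⟨g, hg⟩ with h | h
      · exact ⟨(true, ⟨g, h⟩), rfl⟩
      · refine ⟨(false, ⟨r * g, h⟩), ?_⟩
        apply Subtype.ext
        change r * (r * g) = g
        rw [← mul_assoc, hrr1, one_mul]
    rw [Nat.card_prod, Nat.card_eq_fintype_card (α := Bool), Fintype.card_bool] at h5
    omega
  · obtain ⟨κ, hκ1, hκ2, -⟩ := exists_kap h2 hQ hd
    have hsq : ∀ g : ↥(O Q), κ g * κ g = 1 := by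
      apply O_induction hQ (P := fun g => κ g * κ g = 1)
      · intro v hv
        rw [hκ2]
        split_ifs <;> simp
      · intro u w hu hw
        have := (hκ1 ⟨siegel Q u w hu hw, siegel_mem_O hu hw⟩).1 (siegel_mem_E hu hw)
        rw [this, mul_one]
      · simp only [_root_.map_one, _root_.mul_one]
      · intro a b ha hb
        rw [map_mul]
        calc κ a * κ b * (κ a * κ b) = (κ a * κ a) * (κ b * κ b) := by
              rw [mul_mul_mul_comm]
          _ = 1 := by rw [ha, hb, mul_one]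
      · intro a ha
        rw [map_inv, ← mul_inv, ha, inv_one]
    let T : Finset (Fˣ × ℤˣ) := {(1, 1), (1, -1), (-1, 1), (-1, -1)}
    have hT : ∀ g, κ g ∈ T := by
      intro g
      have h3 := congrArg Prod.fst (hsq g)
      have h4 : ((κ g).1 : F) * ((κ g).1 : F) = 1 := by
        have := congrArg (Units.val) h3
        simpa only [_root_.Prod.fst_mul, _root_.Units.val_mul, _root_.Prod.fst_one, _root_.Units.val_one] using this
      have h5 : (κ g).1 = 1 ∨ (κ g).1 = -1 := by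
        rcases mul_self_eq_one_iff.1 h4 with h | h
        · left; exact Units.ext h
        · right; exact Units.ext (by rw [h]; simp)
      have h6 := Int.units_eq_one_or (κ g).2
      have h7 : κ g = ((κ g).1, (κ g).2) := rfl
      rw [h7]
      rcases h5 with h | h <;> rcases h6 with h' | h' <;> rw [h, h'] <;> simp only [T, _root_.Finset.mem_insert, _root_.Prod.mk.injEq, _root_.units_ne_neg_self, _root_.and_false, _root_.and_true, _root_.Finset.mem_singleton, _root_.or_false, _root_.false_or, _root_.true_or, _root_.neg_units_ne_self, _root_.or_true]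
    have h8 : Nat.card ↥(O Q) = Nat.card κ.range * Nat.card κ.ker := by
      rw [Nat.card_congr (QuotientGroup.quotientKerEquivRange κ).toEquiv.symm, ← Subgroup.index_eq_card,
        mul_comm, Subgroup.card_mul_index]
    have h9 : Nat.card κ.range ≤ 4 := by
      have : Nat.card κ.range ≤ Nat.card T := by
        refine Nat.card_le_card_of_injective (fun x : κ.range => (⟨x.1, by
          obtain ⟨g, hg⟩ := x.2
          rw [← hg]; exact hT g⟩ : T)) ?_
        intro x y hxy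
        exact Subtype.ext (congrArg (fun t : T => t.1) hxy)
      refine this.trans ?_
      rw [Nat.card_eq_fintype_card, Fintype.card_coe]
      exact Finset.card_le_four
    have h10 : Nat.card κ.ker ≤ Nat.card ↥(E Q) := by
      refine Nat.card_le_card_of_injective (fun x : κ.ker => (⟨(x : ↥(O Q)), (hκ1 _).2 x.2⟩ : ↥(E Q))) ?_
      intro x y hxy
      exact Subtype.ext (Subtype.ext (congrArg (fun t : ↥(E Q) => t.1) hxy))
    rw [h8]
    exact Nat.mul_le_mul h9 h10

end Kap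

section Blk

variable {F V W D U : Type*} [Field F] [AddCommGroup V] [Module F V] [AddCommGroup W] [Module F W]
  [AddCommGroup D] [Module F D] [AddCommGroup U] [Module F U] [Finite F] [FiniteDimensional F V]
  [FiniteDimensional F W]
  {e : (W × D × U) ≃ₗ[F] V} {Q : QuadraticForm F V} {QW : QuadraticForm F W} {QD : QuadraticForm F D}
  {QU : QuadraticForm F U}

open Classical in
/-- the sign of an isometry of the first summand -/
theorem kap_J (he : Iso3 Q QW QD QU e) (hQ : Nondeg Q)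
    {κ : ↥(O Q) →* Fˣ × ℤˣ} (hκ1 : ∀ g : ↥(O Q), (g : V ≃ₗ[F] V) ∈ E Q ↔ κ g = 1)
    (hκ2 : ∀ v (hv : Q v ≠ 0), κ ⟨refl Q v hv, refl_mem_O hv⟩ = (-1, if IsSquare (Q v) then -1 else 1))
    {κW : ↥(O QW) →* Fˣ × ℤˣ} (hκW1 : ∀ g : ↥(O QW), (g : W ≃ₗ[F] W) ∈ E QW ↔ κW g = 1)
    (hκW2 : ∀ v (hv : QW v ≠ 0), κW ⟨refl QW v hv, refl_mem_O hv⟩ = (-1, if IsSquare (QW v) then -1 else 1))
    (b : ↥(O QW)) : κ ⟨J e ((b : W ≃ₗ[F] W), 1, 1), (J_mem_O_iff he _ _ _).2 ⟨b.2, one_mem _, one_mem _⟩⟩ = κW b := by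
  have hb : ∀ b : ↥(O QW), J e ((b : W ≃ₗ[F] W), 1, 1) ∈ O Q := fun b =>
    (J_mem_O_iff he _ _ _).2 ⟨b.2, one_mem _, one_mem _⟩
  have key : ∀ b : ↥(O QW), κ ⟨J e ((b : W ≃ₗ[F] W), 1, 1), hb b⟩ = κW b := by
    apply O_induction (he.nondegW hQ) (P := fun b => κ ⟨J e ((b : W ≃ₗ[F] W), 1, 1), hb b⟩ = κW b)
    · intro v hv
      have hv' : Q (e (v, 0, 0)) ≠ 0 := by rw [he]; simpa only [_root_.map_zero, _root_.add_zero, _root_.ne_eq] using hv
      have e1 : (⟨J e (refl QW v hv, 1, 1), hb ⟨refl QW v hv, refl_mem_O hv⟩⟩ : ↥(O Q)) =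
          ⟨refl Q (e (v, 0, 0)) hv', refl_mem_O hv'⟩ := Subtype.ext (J_reflW he hv hv')
      change κ ⟨J e (refl QW v hv, 1, 1), _⟩ = _
      rw [e1, hκ2, hκW2]
      have e2 : Q (e (v, 0, 0)) = QW v := by rw [he]; simp
      simp only [e2]
    · intro u w hu hw
      rw [(hκW1 _).1 (siegel_mem_E hu hw)]
      exact (hκ1 _).1 (J_E_W he (siegel_mem_E hu hw))
    · rw [map_one]
      exact (hκ1 _).1 (J_E_W he (one_mem _))
    · intro x y hx hy
      rw [map_mul, ← hx, ← hy, ← map_mul]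
      congr 1
      apply Subtype.ext
      change J e ((x : W ≃ₗ[F] W) * y, 1, 1) = J e (x, 1, 1) * J e (y, 1, 1)
      rw [← map_mul, Prod.mk_mul_mk, Prod.mk_mul_mk, mul_one, mul_one]
    · intro x hx
      rw [map_inv, ← hx, ← map_inv]
      congr 1
  exact key b

/-- matching spinor signs -/
theorem J_mem_E_odd [FiniteDimensional F D] [FiniteDimensional F U] (h2 : (2 : F) ≠ 0) (he : Iso3 Q QW QD QU e)
    (hQ : Nondeg Q) (hV : 5 ≤ Module.finrank F V) (hD : 5 ≤ Module.finrank F D) (hU : 5 ≤ Module.finrank F U)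
    {b : D ≃ₗ[F] D} {c : U ≃ₗ[F] U} (hb : b ∈ O QD) (hb' : b ∈ Cfsg.Agent.H847.Bs.slV F D) (hc : c ∈ O QU)
    (hc' : c ∈ Cfsg.Agent.H847.Bs.slV F U) (hbc : b ∈ E QD ↔ c ∈ E QU) : J e (1, b, c) ∈ E Q := by
  obtain ⟨κ, hκ1, hκ2, -⟩ := exists_kap h2 hQ hV
  obtain ⟨κD, hD1, hD2, hD3⟩ := exists_kap h2 (he.nondegD hQ) hD
  obtain ⟨κU, hU1, hU2, hU3⟩ := exists_kap h2 (he.nondegU hQ) hU
  have e1 := kap_J (iso_swapD he) hQ hκ1 hκ2 hD1 hD2 ⟨b, hb⟩
  have e2 := kap_J (iso_swapU he) hQ hκ1 hκ2 hU1 hU2 ⟨c, hc⟩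
  have e3 : J e (1, b, c) = J e (1, b, 1) * J e (1, 1, c) := by
    rw [← map_mul]; simp
  have hO : J e (1, b, c) ∈ O Q := (J_mem_O_iff he _ _ _).2 ⟨one_mem _, hb, hc⟩
  rw [hκ1 ⟨_, hO⟩]
  have e4 : κ ⟨_, hO⟩ = κD ⟨b, hb⟩ * κU ⟨c, hc⟩ := by
    rw [← e1, ← e2, ← map_mul]
    congr 1
    apply Subtype.ext
    change J e (1, b, c) = J (swapD e) (b, 1, 1) * J (swapU e) (c, 1, 1)
    rw [J_swapD, J_swapU, e3]
  rw [e4]
  have d1 : (κD ⟨b, hb⟩).1 = 1 := by
    apply Units.ext
    rw [hD3]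
    exact hb'
  have d2 : (κU ⟨c, hc⟩).1 = 1 := by
    apply Units.ext
    rw [hU3]
    exact hc'
  rw [hD1 ⟨b, hb⟩, hU1 ⟨c, hc⟩] at hbc
  refine Prod.ext ?_ ?_
  · rw [Prod.fst_mul, d1, d2, mul_one]
    rfl
  · rw [Prod.snd_mul]
    change _ = (1 : ℤˣ)
    rcases Int.units_eq_one_or (κD ⟨b, hb⟩).2 with h | h <;>
      rcases Int.units_eq_one_or (κU ⟨c, hc⟩).2 with h' | h'
    · rw [h, h', mul_one]
    · exfalso
      have h5 := hbc.1 (Prod.ext d1 h)
      rw [h5] at h'
      have h6 : (1 : ℤˣ) = -1 := h'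
      exact absurd h6 (by decide)
    · exfalso
      have h5 := hbc.2 (Prod.ext d2 h')
      rw [h5] at h
      have h6 : (1 : ℤˣ) = -1 := h
      exact absurd h6 (by decide)
    · rw [h, h']; decide

end Blk

end Cfsg.Agent.H765.Bs

private theorem dce_f756e04cca51 : _root_.True := by
  try have : _root_.True := by simp only [_root_.Cfsg.Agent.H765.Bs.tQ.eq_1]
  try have : _root_.True := by simp only [_root_.Cfsg.Agent.FooteOrth.sg.congr_simp]
  try have : _root_.True := by simp only [_root_.Cfsg.Agent.H765.Bs.cj.eq_1]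
  exact _root_.True.intro
end
end
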